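import Groth.Agent.Lib.Lead.SC.Basic
import Mathlib.Algebra.Homology.DerivedCategory.Fractions
import Mathlib.Algebra.Homology.DerivedCategory.HomologySequence
import Mathlib.Algebra.Homology.SingleHomology
import Mathlib.CategoryTheory.Abelian.Refinements
import Mathlib.CategoryTheory.Sites.LocallyBijective
import Mathlib.CategoryTheory.Sites.Localization
import Mathlib.CategoryTheory.Abelian.GrothendieckAxioms.Sheaf
import Mathlib.Algebra.Category.Grp.AB
import Mathlib.Algebra.Category.Grp.Adjunctions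

/-! # The sheafification of `U ↦ Hom_{D}(ℤ_U[0], L)` is `H⁰(L)`

For an object `L` of the derived category of abelian sheaves on a small site, the presheaf
`U ↦ Hom(ℤ_U[0], L)` sheafifies to the cohomology sheaf `H⁰(L)`.  The proof uses the calculus of right
fractions in the derived category and local lifting of cycles. -/

universe w u
open CategoryTheory Limits Opposite

namespace Groth.Agent.LD.HDSh

section Abstract

variable {𝒞 : Type*} [Category 𝒞] [Abelian 𝒞]

/-- the complex with `A` in degree `0`. -/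
noncomputable abbrev S₀ (A : 𝒞) : CochainComplex 𝒞 ℤ :=
  (HomologicalComplex.single 𝒞 (ComplexShape.up ℤ) 0).obj A

/-- the chain map `A[0] ⟶ M` attached to a "cycle" `A ⟶ Z⁰(M)`. -/
noncomputable def fromCyc {A : 𝒞} {M : CochainComplex 𝒞 ℤ} (z : A ⟶ M.cycles 0) : S₀ A ⟶ M :=
  HomologicalComplex.mkHomFromSingle (z ≫ M.iCycles 0) (by
    intro k _
    rw [Category.assoc, HomologicalComplex.iCycles_d, comp_zero])

lemma fromCyc_f {A : 𝒞} {M : CochainComplex 𝒞 ℤ} (z : A ⟶ M.cycles 0) :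
    (fromCyc z).f 0 =
      (HomologicalComplex.singleObjXSelf (ComplexShape.up ℤ) 0 A).hom ≫ z ≫ M.iCycles 0 :=
  HomologicalComplex.mkHomFromSingle_f _ _

lemma cyclesMap_fromCyc {A : 𝒞} {M : CochainComplex 𝒞 ℤ} (z : A ⟶ M.cycles 0) :
    HomologicalComplex.cyclesMap (fromCyc z) 0 =
      (HomologicalComplex.singleObjCyclesSelfIso (ComplexShape.up ℤ) 0 A).hom ≫ z := by
  rw [← cancel_mono (M.iCycles 0), HomologicalComplex.cyclesMap_i, fromCyc_f,
    HomologicalComplex.singleObjCyclesSelfIso_hom]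
  simp only [Category.assoc]

lemma homologySelfIso_inv_homologyMap_fromCyc {A : 𝒞} {M : CochainComplex 𝒞 ℤ}
    (z : A ⟶ M.cycles 0) :
    (HomologicalComplex.singleObjHomologySelfIso (ComplexShape.up ℤ) 0 A).inv ≫
      HomologicalComplex.homologyMap (fromCyc z) 0 = z ≫ M.homologyπ 0 := by
  rw [← HomologicalComplex.singleObjCyclesSelfIso_inv_homologyπ, Category.assoc,
    HomologicalComplex.homologyπ_naturality, cyclesMap_fromCyc, Category.assoc,
    Iso.inv_hom_id_assoc]

lemma fromCyc_comp {A : 𝒞} {M N : CochainComplex 𝒞 ℤ} (z : A ⟶ M.cycles 0) (g : M ⟶ N) :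
    fromCyc z ≫ g = fromCyc (z ≫ HomologicalComplex.cyclesMap g 0) := by
  apply HomologicalComplex.from_single_hom_ext
  rw [HomologicalComplex.comp_f, fromCyc_f, fromCyc_f]
  simp only [Category.assoc, HomologicalComplex.cyclesMap_i]

lemma single_map_comp_fromCyc {A B : 𝒞} {M : CochainComplex 𝒞 ℤ} (a : A ⟶ B)
    (z : B ⟶ M.cycles 0) :
    (HomologicalComplex.single 𝒞 (ComplexShape.up ℤ) 0).map a ≫ fromCyc z = fromCyc (a ≫ z) := by
  apply HomologicalComplex.from_single_hom_ext
  rw [HomologicalComplex.comp_f, fromCyc_f, fromCyc_f, HomologicalComplex.single_map_f_self]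
  simp only [Category.assoc, Iso.inv_hom_id_assoc]

/-- the homotopy data killing a boundary. -/
noncomputable def nullH {A : 𝒞} {M : CochainComplex 𝒞 ℤ} (y : A ⟶ M.X (-1)) :
    ∀ i j, (ComplexShape.up ℤ).Rel j i → ((S₀ A).X i ⟶ M.X j) :=
  fun i j hij => if hi : i = 0 then
    (HomologicalComplex.singleObjXIsoOfEq (ComplexShape.up ℤ) 0 A i hi).hom ≫ y ≫
      (M.XIsoOfEq (show (-1 : ℤ) = j by
        have h1 : j + 1 = i := hij
        omega)).hom
  else 0

lemma fromCyc_boundary_eq {A : 𝒞} {M : CochainComplex 𝒞 ℤ} (y : A ⟶ M.X (-1)) :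
    fromCyc (y ≫ M.toCycles (-1) 0) = Homotopy.nullHomotopicMap' (nullH y) := by
  apply HomologicalComplex.from_single_hom_ext
  rw [fromCyc_f, Homotopy.nullHomotopicMap'_f (k₂ := -1) (k₁ := 0) (k₀ := 1) (by simp) (by simp)]
  have h1 : nullH y 0 (-1) (by simp) =
      (HomologicalComplex.singleObjXSelf (ComplexShape.up ℤ) 0 A).hom ≫ y := by
    simp [nullH, HomologicalComplex.singleObjXSelf]
  rw [h1]
  simp

lemma Q_map_fromCyc_boundary [HasDerivedCategory.{w} 𝒞] {A : 𝒞} {M : CochainComplex 𝒞 ℤ}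
    (y : A ⟶ M.X (-1)) :
    DerivedCategory.Q.map (fromCyc (y ≫ M.toCycles (-1) 0)) = 0 := by
  rw [fromCyc_boundary_eq,
    DerivedCategory.Q_map_eq_of_homotopy _ (Homotopy.nullHomotopy' (nullH y)), Functor.map_zero]

lemma single_hom_ext_of_homologyMap {A B : 𝒞} (a b : S₀ A ⟶ S₀ B)
    (h : HomologicalComplex.homologyMap a 0 = HomologicalComplex.homologyMap b 0) : a = b := by
  obtain ⟨a', rfl⟩ := (HomologicalComplex.single 𝒞 (ComplexShape.up ℤ) 0).map_surjective a
  obtain ⟨b', rfl⟩ := (HomologicalComplex.single 𝒞 (ComplexShape.up ℤ) 0).map_surjective b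
  have ha : a' = (HomologicalComplex.singleObjHomologySelfIso (ComplexShape.up ℤ) 0 A).inv ≫
      HomologicalComplex.homologyMap
        ((HomologicalComplex.single 𝒞 (ComplexShape.up ℤ) 0).map a') 0 ≫
      (HomologicalComplex.singleObjHomologySelfIso (ComplexShape.up ℤ) 0 B).hom := by
    rw [HomologicalComplex.singleObjHomologySelfIso_hom_naturality, Iso.inv_hom_id_assoc]
  have hb : b' = (HomologicalComplex.singleObjHomologySelfIso (ComplexShape.up ℤ) 0 A).inv ≫
      HomologicalComplex.homologyMap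
        ((HomologicalComplex.single 𝒞 (ComplexShape.up ℤ) 0).map b') 0 ≫
      (HomologicalComplex.singleObjHomologySelfIso (ComplexShape.up ℤ) 0 B).hom := by
    rw [HomologicalComplex.singleObjHomologySelfIso_hom_naturality, Iso.inv_hom_id_assoc]
  rw [ha, hb, h]

end Abstract

section Derived

variable {𝒞 : Type*} [Category 𝒞] [Abelian 𝒞] [HasDerivedCategory.{w} 𝒞]

open DerivedCategory

/-- the comparison `H⁰(Q X) ⟶ H⁰(X)`. -/
noncomputable def ffHom (X : CochainComplex 𝒞 ℤ) :
    (homologyFunctor 𝒞 0).obj (Q.obj X) ⟶ X.homology 0 :=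
  (homologyFunctorFactors 𝒞 0).hom.app X

/-- the comparison `H⁰(X) ⟶ H⁰(Q X)`. -/
noncomputable def ffInv (X : CochainComplex 𝒞 ℤ) :
    X.homology 0 ⟶ (homologyFunctor 𝒞 0).obj (Q.obj X) :=
  (homologyFunctorFactors 𝒞 0).inv.app X

@[reassoc (attr := simp)]
lemma ffHom_ffInv (X : CochainComplex 𝒞 ℤ) : ffHom X ≫ ffInv X = 𝟙 _ :=
  (homologyFunctorFactors 𝒞 0).hom_inv_id_app X

@[reassoc (attr := simp)]
lemma ffInv_ffHom (X : CochainComplex 𝒞 ℤ) : ffInv X ≫ ffHom X = 𝟙 _ :=
  (homologyFunctorFactors 𝒞 0).inv_hom_id_app X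

@[reassoc]
lemma ffHom_naturality {X Y : CochainComplex 𝒞 ℤ} (f : X ⟶ Y) :
    (homologyFunctor 𝒞 0).map (Q.map f) ≫ ffHom Y =
      ffHom X ≫ HomologicalComplex.homologyMap f 0 :=
  homologyFunctorFactors_hom_naturality f 0

/-- the map induced on `H⁰` by a morphism of the derived category between two complexes. -/
noncomputable def H0m {X Y : CochainComplex 𝒞 ℤ} (φ : Q.obj X ⟶ Q.obj Y) :
    X.homology 0 ⟶ Y.homology 0 :=
  ffInv X ≫ (homologyFunctor 𝒞 0).map φ ≫ ffHom Y

lemma H0m_Q_map {X Y : CochainComplex 𝒞 ℤ} (f : X ⟶ Y) :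
    H0m (Q.map f) = HomologicalComplex.homologyMap f 0 := by
  rw [H0m, ffHom_naturality, ffInv_ffHom_assoc]

lemma H0m_comp {X Y Z : CochainComplex 𝒞 ℤ} (φ : Q.obj X ⟶ Q.obj Y) (ψ : Q.obj Y ⟶ Q.obj Z) :
    H0m (φ ≫ ψ) = H0m φ ≫ H0m ψ := by
  simp only [H0m, Functor.map_comp, Category.assoc, ffHom_ffInv_assoc]

lemma H0m_add {X Y : CochainComplex 𝒞 ℤ} (φ ψ : Q.obj X ⟶ Q.obj Y) :
    H0m (φ + ψ) = H0m φ + H0m ψ := by
  simp only [H0m, Functor.map_add, Preadditive.add_comp, Preadditive.comp_add]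

lemma homologyMap_comp_H0m_of_fac {X X' Y : CochainComplex 𝒞 ℤ} (s : X' ⟶ X)
    [IsIso (Q.map s)] (g : X' ⟶ Y) (φ : Q.obj X ⟶ Q.obj Y)
    (h : φ = inv (Q.map s) ≫ Q.map g) :
    HomologicalComplex.homologyMap s 0 ≫ H0m φ = HomologicalComplex.homologyMap g 0 := by
  rw [← H0m_Q_map s, ← H0m_comp, h, IsIso.hom_inv_id_assoc, H0m_Q_map]

end Derived

section Site

open Groth.Agent.LD.SC DerivedCategory

variable {C : Type u} [SmallCategory C] {J : GrothendieckTopology C}
  [HasDerivedCategory.{u} (Sheaf J AddCommGrpCat.{u})]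

/-- the presheaf `U ↦ Hom(ℤ_U[0], L)`. -/
noncomputable abbrev PP (L : DerivedCategory (Sheaf J AddCommGrpCat.{u})) :
    Cᵒᵖ ⥤ AddCommGrpCat.{u} :=
  (yoneda ⋙ (Functor.whiskeringRight _ _ _).obj AddCommGrpCat.free.{u} ⋙
      presheafToSheaf J AddCommGrpCat.{u} ⋙
      DerivedCategory.singleFunctor (Sheaf J AddCommGrpCat.{u}) 0).op ⋙ preadditiveYoneda.obj L

variable (M : CochainComplex (Sheaf J AddCommGrpCat.{u}) ℤ)

/-- the comparison map on sections over `U`. -/
noncomputable def aU (U : C) :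
    (Q.obj (S₀ (ZU J U)) ⟶ Q.obj M) →+ (M.homology 0).obj.obj (op U) :=
  (homAddEquiv U (M.homology 0)).toAddMonoidHom.comp
    (AddMonoidHom.mk'
      (fun φ => (HomologicalComplex.singleObjHomologySelfIso (ComplexShape.up ℤ) 0 (ZU J U)).inv ≫
        H0m φ)
      (fun φ ψ => by rw [H0m_add, Preadditive.comp_add]))

lemma aU_apply (U : C) (φ : Q.obj (S₀ (ZU J U)) ⟶ Q.obj M) :
    aU M U φ = homEquiv U (M.homology 0)
      ((HomologicalComplex.singleObjHomologySelfIso (ComplexShape.up ℤ) 0 (ZU J U)).inv ≫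
        H0m φ) := rfl

lemma aU_map {U V : C} (f : V ⟶ U) (φ : Q.obj (S₀ (ZU J U)) ⟶ Q.obj M) :
    aU M V (Q.map ((HomologicalComplex.single _ (ComplexShape.up ℤ) 0).map (ZUmap J f)) ≫ φ) =
      (M.homology 0).obj.map f.op (aU M U φ) := by
  rw [aU_apply, aU_apply, H0m_comp, H0m_Q_map, ← homEquiv_map,
    HomologicalComplex.singleObjHomologySelfIso_inv_naturality_assoc]

/-- the comparison morphism of presheaves. -/
noncomputable def alpha : PP (J := J) (Q.obj M) ⟶ (M.homology 0).obj where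
  app X := AddCommGrpCat.ofHom (aU M X.unop)
  naturality X Y f := by
    ext φ
    exact aU_map M f.unop φ

lemma alpha_app_apply (U : C) (φ : Q.obj (S₀ (ZU J U)) ⟶ Q.obj M) :
    (alpha M).app (op U) φ = aU M U φ := rfl

instance alpha_locSurj : Presheaf.IsLocallySurjective J (alpha M) where
  imageSieve_mem {U} s := by
    haveI : Sheaf.IsLocallySurjective (M.homologyπ 0) :=
      (Sheaf.isLocallySurjective_iff_epi' (φ := M.homologyπ 0)).mpr inferInstance
    refine J.superset_covering ?_ (Presheaf.imageSieve_mem J (M.homologyπ 0).hom s)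
    rintro V f ⟨z, hz⟩
    refine ⟨Q.map (fromCyc ((homEquiv V (M.cycles 0)).symm z)), ?_⟩
    change aU M V (Q.map (fromCyc ((homEquiv V (M.cycles 0)).symm z))) = _
    rw [aU_apply, H0m_Q_map, homologySelfIso_inv_homologyMap_fromCyc,
      homEquiv_comp, Equiv.apply_symm_apply]
    exact hz

/-- the sieve of arrows along which `φ` restricts to zero. -/
def zeroSieve (U : C) (φ : Q.obj (S₀ (ZU J U)) ⟶ Q.obj M) : Sieve U where
  arrows V f :=
    Q.map ((HomologicalComplex.single _ (ComplexShape.up ℤ) 0).map (ZUmap J f)) ≫ φ = 0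
  downward_closed := by
    intro V W f hf g
    rw [ZUmap_comp, Functor.map_comp, Functor.map_comp, Category.assoc, hf, comp_zero]

/-- a cycle whose class vanishes is locally a boundary, hence locally zero in the derived category. -/
lemma exists_sieve_of_homologyπ_eq_zero {V : C} (ζ : ZU J V ⟶ M.cycles 0)
    (hζ : ζ ≫ M.homologyπ 0 = 0) :
    ∃ R ∈ J V, ∀ {W : C} (h : W ⟶ V), R h →
      Q.map ((HomologicalComplex.single _ (ComplexShape.up ℤ) 0).map (ZUmap J h)) ≫
        Q.map (fromCyc ζ) = 0 := by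
  let S := ShortComplex.mk (M.toCycles (-1) 0) (M.homologyπ 0) (M.toCycles_comp_homologyπ (-1) 0)
  have hS : S.Exact :=
    ShortComplex.exact_of_g_is_cokernel _ (M.homologyIsCokernel (-1) 0 (by simp))
  obtain ⟨A', p, hp, x₁, fac⟩ := hS.exact_up_to_refinements ζ hζ
  haveI : Sheaf.IsLocallySurjective p :=
    (Sheaf.isLocallySurjective_iff_epi' (φ := p)).mpr hp
  refine ⟨Presheaf.imageSieve p.hom (gen V), Presheaf.imageSieve_mem J p.hom _, ?_⟩
  rintro W h ⟨a, ha⟩
  have h1 : (homEquiv W A').symm a ≫ p = ZUmap J h := by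
    apply (homEquiv W (ZU J V)).injective
    rw [homEquiv_comp, Equiv.apply_symm_apply, ha]
    have := homEquiv_map h (𝟙 (ZU J V))
    rw [Category.comp_id] at this
    rw [this]
    rfl
  rw [← Functor.map_comp, single_map_comp_fromCyc, ← h1, Category.assoc]
  change Q.map (fromCyc ((homEquiv W A').symm a ≫ p ≫ ζ)) = 0
  rw [fac]
  change Q.map (fromCyc ((homEquiv W A').symm a ≫ x₁ ≫ M.toCycles (-1) 0)) = 0
  rw [← Category.assoc]
  exact Q_map_fromCyc_boundary _

lemma zeroSieve_mem (U : C) (φ : Q.obj (S₀ (ZU J U)) ⟶ Q.obj M) (h : aU M U φ = 0) :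
    zeroSieve M U φ ∈ J U := by
  have hH : H0m φ = 0 := by
    rw [aU_apply] at h
    have h' := (homAddEquiv U (M.homology 0)).map_eq_zero_iff.mp h
    rw [← cancel_epi (HomologicalComplex.singleObjHomologySelfIso (ComplexShape.up ℤ) 0
      (ZU J U)).inv, h', comp_zero]
  obtain ⟨X', s, hs, g, fac⟩ := DerivedCategory.right_fac φ
  haveI := hs
  have hg : HomologicalComplex.homologyMap g 0 = 0 := by
    rw [← homologyMap_comp_H0m_of_fac s g φ fac, hH, comp_zero]
  haveI : QuasiIso s := (isIso_Q_map_iff_quasiIso _ s).1 hs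
  haveI : QuasiIsoAt s 0 := (‹QuasiIso s›).quasiIsoAt 0
  haveI : IsIso (HomologicalComplex.homologyMap s 0) :=
    (quasiIsoAt_iff_isIso_homologyMap s 0).1 inferInstance
  let t : ZU J U ⟶ X'.homology 0 :=
    (HomologicalComplex.singleObjHomologySelfIso (ComplexShape.up ℤ) 0 (ZU J U)).inv ≫
      inv (HomologicalComplex.homologyMap s 0)
  haveI : Sheaf.IsLocallySurjective (X'.homologyπ 0) :=
    (Sheaf.isLocallySurjective_iff_epi' (φ := X'.homologyπ 0)).mpr inferInstance
  refine J.transitive (Presheaf.imageSieve_mem J (X'.homologyπ 0).hom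
    (homEquiv U (X'.homology 0) t)) _ ?_
  rintro V f ⟨z, hz⟩
  let ζ : ZU J V ⟶ X'.cycles 0 := (homEquiv V (X'.cycles 0)).symm z
  have c1 : ζ ≫ X'.homologyπ 0 = ZUmap J f ≫ t := by
    apply (homEquiv V (X'.homology 0)).injective
    rw [homEquiv_comp, Equiv.apply_symm_apply, homEquiv_map]
    exact hz
  have c2 : fromCyc ζ ≫ s =
      (HomologicalComplex.single _ (ComplexShape.up ℤ) 0).map (ZUmap J f) := by
    apply single_hom_ext_of_homologyMap
    rw [← cancel_epi (HomologicalComplex.singleObjHomologySelfIso (ComplexShape.up ℤ) 0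
      (ZU J V)).inv, HomologicalComplex.homologyMap_comp,
      ← Category.assoc, homologySelfIso_inv_homologyMap_fromCyc, c1,
      HomologicalComplex.singleObjHomologySelfIso_inv_naturality]
    simp only [t, Category.assoc, IsIso.inv_hom_id, Category.comp_id]
  have c3 : Q.map ((HomologicalComplex.single _ (ComplexShape.up ℤ) 0).map (ZUmap J f)) ≫ φ =
      Q.map (fromCyc (ζ ≫ HomologicalComplex.cyclesMap g 0)) := by
    rw [← c2, fac, Functor.map_comp, Category.assoc, IsIso.hom_inv_id_assoc,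
      ← Functor.map_comp, fromCyc_comp]
  have c4 : (ζ ≫ HomologicalComplex.cyclesMap g 0) ≫ M.homologyπ 0 = 0 := by
    rw [Category.assoc, ← HomologicalComplex.homologyπ_naturality, hg, comp_zero, comp_zero]
  obtain ⟨R, hR, hR0⟩ := exists_sieve_of_homologyπ_eq_zero M _ c4
  refine J.superset_covering ?_ hR
  intro W h hh
  change Q.map ((HomologicalComplex.single _ (ComplexShape.up ℤ) 0).map (ZUmap J (h ≫ f))) ≫ φ = 0
  rw [ZUmap_comp, Functor.map_comp, Functor.map_comp, Category.assoc, c3]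
  exact hR0 h hh

instance alpha_locInj : Presheaf.IsLocallyInjective J (alpha M) where
  equalizerSieve_mem {X} x y h := by
    let x' : Q.obj (S₀ (ZU J X.unop)) ⟶ Q.obj M := x
    let y' : Q.obj (S₀ (ZU J X.unop)) ⟶ Q.obj M := y
    have h0 : aU M X.unop (x' - y') = 0 := by
      rw [map_sub, sub_eq_zero]
      exact h
    refine J.superset_covering ?_ (zeroSieve_mem M X.unop (x' - y') h0)
    intro V f hf
    change Q.map ((HomologicalComplex.single _ (ComplexShape.up ℤ) 0).map (ZUmap J f)) ≫ x' =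
      Q.map ((HomologicalComplex.single _ (ComplexShape.up ℤ) 0).map (ZUmap J f)) ≫ y'
    rw [← sub_eq_zero, ← Preadditive.comp_sub]
    exact hf

theorem nonempty_iso_of_complex :
    Nonempty ((presheafToSheaf J AddCommGrpCat.{u}).obj (PP (J := J) (Q.obj M)) ≅ M.homology 0) := by
  have hW : J.W (alpha M) := J.W_of_isLocallyBijective (alpha M)
  haveI : IsIso ((presheafToSheaf J AddCommGrpCat.{u}).map (alpha M)) := (J.W_iff _).1 hW
  exact ⟨asIso ((presheafToSheaf J AddCommGrpCat.{u}).map (alpha M)) ≪≫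
    asIso ((sheafificationAdjunction J AddCommGrpCat.{u}).counit.app (M.homology 0))⟩

theorem nonempty_iso (L : DerivedCategory (Sheaf J AddCommGrpCat.{u})) :
    Nonempty ((presheafToSheaf J AddCommGrpCat.{u}).obj (PP (J := J) L) ≅
      (DerivedCategory.homologyFunctor (Sheaf J AddCommGrpCat.{u}) 0).obj L) := by
  let M := (Q (C := Sheaf J AddCommGrpCat.{u})).objPreimage L
  let e : Q.obj M ≅ L := (Q (C := Sheaf J AddCommGrpCat.{u})).objObjPreimageIso L
  obtain ⟨i⟩ := nonempty_iso_of_complex M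
  exact ⟨(presheafToSheaf J AddCommGrpCat.{u}).mapIso
      (Functor.isoWhiskerLeft _ (preadditiveYoneda.mapIso e.symm)) ≪≫ i ≪≫
    (Iso.mk (ffInv M) (ffHom M) (ffInv_ffHom M) (ffHom_ffInv M)) ≪≫
    (DerivedCategory.homologyFunctor (Sheaf J AddCommGrpCat.{u}) 0).mapIso e⟩

theorem nonempty_iso_shift (K : DerivedCategory (Sheaf J AddCommGrpCat.{u})) (q : ℤ) :
    Nonempty ((presheafToSheaf J AddCommGrpCat.{u}).obj
        (PP (J := J) ((shiftFunctor (DerivedCategory (Sheaf J AddCommGrpCat.{u})) q).obj K)) ≅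
      (DerivedCategory.homologyFunctor (Sheaf J AddCommGrpCat.{u}) q).obj K) := by
  obtain ⟨i⟩ := nonempty_iso (J := J)
    ((shiftFunctor (DerivedCategory (Sheaf J AddCommGrpCat.{u})) q).obj K)
  exact ⟨i ≪≫ ((DerivedCategory.homologyFunctor (Sheaf J AddCommGrpCat.{u}) 0).shiftIso q 0 q
    (add_zero q)).app K⟩

end Site

end Groth.Agent.LD.HDSh
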